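import Mathlib.Topology.Algebra.IsUniformGroup.Basic
import Mathlib.Topology.UniformSpace.Cauchy
import Mathlib.Topology.Algebra.OpenSubgroup
import Mathlib.Topology.Algebra.Group.Quotient

/-!
# Successive approximation in complete non-archimedean groups
-/

set_option autoImplicit false

namespace LinTopLib

universe u v

open Filter Topology

variable {G : Type u} [AddCommGroup G] [UniformSpace G] [IsUniformAddGroup G]

/-- A sequence whose increments lie in a fundamental sequence of open subgroups converges, with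
the expected estimate. -/
theorem exists_limit_of_sub_mem [CompleteSpace G] (U : ℕ → AddSubgroup G) (hanti : Antitone U)
    (hopen : ∀ n, IsOpen (U n : Set G)) (hbasis : ∀ W ∈ 𝓝 (0 : G), ∃ n, (U n : Set G) ⊆ W)
    (f : ℕ → G) (hf : ∀ n, f (n + 1) - f n ∈ U n) :
    ∃ L, Tendsto f atTop (𝓝 L) ∧ ∀ n, L - f n ∈ U n := by
  have hsub : ∀ n m, n ≤ m → f m - f n ∈ U n := by
    intro n m h
    induction h with
    | refl => simp
    | step h ih =>
      rename_i m
      rw [← sub_add_sub_cancel (f (m + 1)) (f m) (f n)]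
      exact (U n).add_mem (hanti h (hf m)) ih
  have hU : (𝓝 (0 : G)).HasBasis (fun _ => True) (fun n => (U n : Set G)) :=
    ⟨fun W => ⟨fun hW => (hbasis W hW).imp fun n hn => ⟨trivial, hn⟩,
      fun ⟨n, _, hn⟩ => mem_of_superset ((hopen n).mem_nhds (U n).zero_mem) hn⟩⟩
  have hcauchy : CauchySeq f := by
    refine hU.uniformity_of_nhds_zero.cauchySeq_iff.mpr fun n _ => ⟨n, fun a ha b hb => ?_⟩
    show f b - f a ∈ U n
    rw [← sub_sub_sub_cancel_right (f b) (f a) (f n)]
    exact (U n).sub_mem (hsub n b hb) (hsub n a ha)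
  obtain ⟨L, hL⟩ := cauchySeq_tendsto_of_complete hcauchy
  refine ⟨L, hL, fun n => ?_⟩
  refine ((U n).isClosed_of_isOpen (hopen n)).mem_of_tendsto (hL.sub tendsto_const_nhds) ?_
  filter_upwards [eventually_ge_atTop n] with m hm using hsub n m hm

variable {H : Type v} [AddCommGroup H] [TopologicalSpace H] [IsTopologicalAddGroup H]

theorem zero_mem_closure_image (f : G →+ H) (U : AddSubgroup G) :
    (0 : H) ∈ closure (f '' (U : Set G)) :=
  subset_closure ⟨0, U.zero_mem, map_zero f⟩

/-- The closure of the image of a subgroup, as a subgroup. -/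
def closureImage (f : G →+ H) (U : AddSubgroup G) : AddSubgroup H := (U.map f).topologicalClosure

theorem coe_closureImage (f : G →+ H) (U : AddSubgroup G) :
    (closureImage f U : Set H) = closure (f '' (U : Set G)) := rfl

/-- Open mapping by successive approximation: if the closures of the images of a fundamental
sequence of open subgroups of a complete group are open and form a fundamental system at zero of a
Hausdorff group, then these images are closed. -/
theorem image_eq_closure [CompleteSpace G] [T2Space H] (f : G →+ H) (hf : Continuous f)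
    (U : ℕ → AddSubgroup G) (hanti : Antitone U) (hopen : ∀ n, IsOpen (U n : Set G))
    (hbasis : ∀ W ∈ 𝓝 (0 : G), ∃ n, (U n : Set G) ⊆ W)
    (hopen' : ∀ n, IsOpen (closure (f '' (U n : Set G))))
    (hbasis' : ∀ W ∈ 𝓝 (0 : H), ∃ n, closure (f '' (U n : Set G)) ⊆ W) (n : ℕ) :
    f '' (U n : Set G) = closure (f '' (U n : Set G)) := by
  refine subset_antisymm subset_closure fun y hy => ?_
  have step : ∀ k z, z ∈ closureImage f (U k) →
      ∃ a ∈ U k, z - f a ∈ closureImage f (U (k + 1)) := by
    intro k z hz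
    have hnhds : (fun w => z - w) ⁻¹' (closureImage f (U (k + 1)) : Set H) ∈ 𝓝 z :=
      (continuous_const.sub continuous_id).continuousAt.preimage_mem_nhds
        (by rw [Pi.sub_apply, id_eq, sub_self]; exact (hopen' (k + 1)).mem_nhds (closureImage f (U (k + 1))).zero_mem)
    obtain ⟨_, hw, a, ha, rfl⟩ := mem_closure_iff_nhds.mp hz _ hnhds
    exact ⟨a, ha, hw⟩
  choose! a ha hza using step
  let s : ℕ → G := fun j => Nat.rec (motive := fun _ => G) 0
    (fun j sj => sj + a (n + j) (y - f sj)) j
  have hs : ∀ j, y - f (s j) ∈ closureImage f (U (n + j)) := by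
    intro j
    induction j with
    | zero => rw [show s 0 = 0 from rfl, map_zero, sub_zero]; exact hy
    | succ j ih =>
      show y - f (s j + a (n + j) (y - f (s j))) ∈ _
      rw [map_add, ← sub_sub]
      exact hza _ _ ih
  have hinc : ∀ j, s (j + 1) - s j ∈ U (n + j) := by
    intro j
    show s j + a (n + j) (y - f (s j)) - s j ∈ U (n + j)
    rw [add_sub_cancel_left]
    exact ha _ _ (hs j)
  obtain ⟨L, hL, hLs⟩ := exists_limit_of_sub_mem (fun j => U (n + j))
    (fun _ _ h => hanti (Nat.add_le_add_left h n)) (fun _ => hopen _)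
    (fun W hW => (hbasis W hW).imp fun k hk => subset_trans (hanti (Nat.le_add_left k n)) hk)
    s hinc
  refine ⟨L, by simpa [show s 0 = 0 from rfl] using hLs 0, ?_⟩
  refine (sub_eq_zero.mp ?_).symm
  by_contra hne
  obtain ⟨k, hk⟩ := hbasis' _ (isClosed_singleton.isOpen_compl.mem_nhds (Ne.symm hne))
  refine hk ?_ rfl
  show y - f L ∈ closureImage f (U k)
  have hle : closureImage f (U (n + k)) ≤ closureImage f (U k) :=
    fun z hz => closure_mono (Set.image_mono (hanti (Nat.le_add_left k n))) hz
  rw [show y - f L = (y - f (s k)) - f (L - s k) by rw [map_sub]; abel]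
  refine sub_mem (hle (hs k)) (hle (subset_closure ⟨_, hLs k, rfl⟩))

/-- In the situation of `image_eq_closure` the map is open. -/
theorem isOpenMap_of_image [CompleteSpace G] [T2Space H] (f : G →+ H) (hf : Continuous f)
    (U : ℕ → AddSubgroup G) (hanti : Antitone U) (hopen : ∀ n, IsOpen (U n : Set G))
    (hbasis : ∀ W ∈ 𝓝 (0 : G), ∃ n, (U n : Set G) ⊆ W)
    (hopen' : ∀ n, IsOpen (closure (f '' (U n : Set G))))
    (hbasis' : ∀ W ∈ 𝓝 (0 : H), ∃ n, closure (f '' (U n : Set G)) ⊆ W) : IsOpenMap f := by
  intro S hS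
  rw [isOpen_iff_mem_nhds]
  rintro _ ⟨x, hx, rfl⟩
  obtain ⟨n, hn⟩ := hbasis ((fun u : G => x + u) ⁻¹' S) ((continuous_const_add x).continuousAt.preimage_mem_nhds
    (show S ∈ 𝓝 (x + (0 : G)) by rw [add_zero]; exact hS.mem_nhds hx))
  have h1 : (fun w => w - f x) ⁻¹' (f '' (U n : Set G)) ∈ 𝓝 (f x) :=
    (continuous_id.sub continuous_const).continuousAt.preimage_mem_nhds (by
      rw [image_eq_closure f hf U hanti hopen hbasis hopen' hbasis' n]
      rw [Pi.sub_apply, id_eq, sub_self]
      exact (hopen' n).mem_nhds (zero_mem_closure_image f _))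
  refine mem_of_superset h1 fun w hw => ?_
  obtain ⟨u, hu, hfu⟩ := hw
  exact ⟨x + u, hn hu, by simp only [map_add, hfu, add_sub_cancel]⟩

/-- In the situation of `image_eq_closure` the target is complete as well. -/
theorem completeSpace_of_image {K : Type v} [AddCommGroup K] [UniformSpace K] [IsUniformAddGroup K]
    [T2Space K] [CompleteSpace G] (f : G →+ K) (hf : Continuous f)
    (U : ℕ → AddSubgroup G) (hanti : Antitone U) (hopen : ∀ n, IsOpen (U n : Set G))
    (hbasis : ∀ W ∈ 𝓝 (0 : G), ∃ n, (U n : Set G) ⊆ W)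
    (hopen' : ∀ n, IsOpen (closure (f '' (U n : Set G))))
    (hbasis' : ∀ W ∈ 𝓝 (0 : K), ∃ n, closure (f '' (U n : Set G)) ⊆ W)
    (hsurj : Function.Surjective f) : CompleteSpace K := by
  have hV : (𝓝 (0 : K)).HasBasis (fun _ => True) (fun n => closure (f '' (U n : Set G))) :=
    ⟨fun W => ⟨fun hW => (hbasis' W hW).imp fun n hn => ⟨trivial, hn⟩,
      fun ⟨n, _, hn⟩ => mem_of_superset ((hopen' n).mem_nhds (zero_mem_closure_image f _)) hn⟩⟩
  have hu := hV.uniformity_of_nhds_zero
  have : (uniformity K).IsCountablyGenerated :=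
    HasCountableBasis.isCountablyGenerated ⟨hu, Set.to_countable _⟩
  refine UniformSpace.complete_of_convergent_controlled_sequences
    (fun n => {p : K × K | p.2 - p.1 ∈ closure (f '' (U n : Set G))})
    (fun n => hu.mem_of_mem trivial) fun b hb => ?_
  have hd : ∀ k, ∃ d ∈ U k, f d = b (k + 1) - b k := fun k => by
    have h1 : b (k + 1) - b k ∈ closure (f '' (U k : Set G)) := hb k k (k + 1) le_rfl k.le_succ
    rw [← image_eq_closure f hf U hanti hopen hbasis hopen' hbasis' k] at h1
    exact h1
  choose d hd hfd using hd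
  obtain ⟨g0, hg0⟩ := hsurj (b 0)
  let g : ℕ → G := fun k => Nat.rec (motive := fun _ => G) g0 (fun k gk => gk + d k) k
  have hg : ∀ k, f (g k) = b k := by
    intro k
    induction k with
    | zero => exact hg0
    | succ k ih =>
      show f (g k + d k) = b (k + 1)
      rw [map_add, ih, hfd, add_sub_cancel]
  obtain ⟨L, hL, -⟩ := exists_limit_of_sub_mem U hanti hopen hbasis g fun k => by
    show g k + d k - g k ∈ U k
    rw [add_sub_cancel_left]; exact hd k
  refine ⟨f L, ?_⟩
  have := (hf.tendsto L).comp hL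
  simpa [Function.comp_def, hg] using this

end LinTopLib
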