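import Groth.Agent.LinTopLib.Basic
import Groth.Agent.LinTopLib.OpenMapping
import Mathlib.RingTheory.Finiteness.Ideal

/-!
# Weakly pre-adic and adic rings
-/

set_option autoImplicit false
set_option linter.unusedSectionVars false

namespace LinTopLib

universe u v w

open Filter Topology LinTop

variable {A : Type u} [CommRing A] [TopologicalSpace A] [IsTopologicalRing A]

theorem isOpen_pow_of_isPreadic (hA : IsPreadic A) {I : Ideal A} (hI : IsIdealOfDefinition A I)
    (n : ℕ) : IsOpen ((I ^ n : Ideal A) : Set A) := by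
  obtain ⟨J, hJ⟩ := hA
  obtain ⟨hJo, hJb⟩ := isAdic_iff.mp hJ
  obtain ⟨k, hk⟩ := hJb _ (hI.1.mem_nhds I.zero_mem)
  refine isOpen_mono ?_ (hJo (k * n))
  rw [pow_mul]
  exact Ideal.pow_right_mono hk n

theorem isLinearTopology_of_isPreadic (hA : IsPreadic A) : IsLinearTopology A A := by
  obtain ⟨J, hJ⟩ := hA
  exact IsLinearTopology.mk_of_hasBasis' A (p := fun _ : ℕ => True)
    (s := fun n : ℕ => (J ^ n : Ideal A)) hJ.hasBasis_nhds_zero
    (fun s a _ hm => Ideal.mul_mem_left s a hm)

theorem isIdealOfDefinition_of_isAdic {J : Ideal A} (hJ : IsAdic J) : IsIdealOfDefinition A J := by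
  obtain ⟨hJo, hJb⟩ := isAdic_iff.mp hJ
  refine ⟨by simpa using hJo 1, fun W hW => ?_⟩
  obtain ⟨n, hn⟩ := hJb W hW
  exact ⟨n + 1, n.succ_pos, subset_trans (Ideal.pow_le_pow_right n.le_succ) hn⟩

theorem isAdic_of_idealOfDefinition (hA : IsPreadic A) {I : Ideal A}
    (hI : IsIdealOfDefinition A I) : IsAdic I :=
  isAdic_iff.mpr ⟨isOpen_pow_of_isPreadic hA hI,
    fun W hW => (hI.2 W hW).imp fun _ h => h.2⟩

theorem isTaut_of_isAdic_map {B : Type v} [CommRing B] [TopologicalSpace B] [IsTopologicalRing B]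
    (hA : IsPreadic A) {φ : A →+* B} (hφ : Continuous φ) {I : Ideal A}
    (hI : IsIdealOfDefinition A I) (h : IsAdic (I.map φ)) : IsTaut φ := by
  obtain ⟨hopen, hbasis⟩ := isAdic_iff.mp h
  refine ⟨hφ, fun K hK => ?_, fun W hW => ?_⟩
  · obtain ⟨n, -, hn⟩ := hI.2 _ (hK.mem_nhds K.zero_mem)
    have h1 : IsOpen ((K.map φ : Ideal B) : Set B) :=
      isOpen_mono ((Ideal.map_pow φ I n).ge.trans (Ideal.map_mono hn)) (hopen n)
    rwa [closure_eq_self h1]
  · obtain ⟨n, hn⟩ := hbasis W hW
    refine ⟨I ^ n, isOpen_pow_of_isPreadic hA hI n, ?_⟩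
    rw [Ideal.map_pow, closure_eq_self (hopen n)]
    exact hn

/-- Weak pre-adicness in terms of an ideal of definition. -/
theorem exists_idealOfDefinition_of_isWeaklyPreadic (hA : IsWeaklyPreadic A) :
    ∃ I : Ideal A, IsIdealOfDefinition A I ∧
      ∀ n : ℕ, IsOpen (closure ((I ^ n : Ideal A) : Set A)) := by
  obtain ⟨-, I, hopen, hbasis⟩ := hA
  refine ⟨I.closure, ⟨by simpa using hopen 1, fun W hW => ?_⟩, fun n => ?_⟩
  · obtain ⟨n, hn⟩ := hbasis W hW
    exact ⟨n + 1, n.succ_pos, fun x hx => hn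
      (closure_mono (Ideal.pow_le_pow_right n.le_succ) (closure_pow_le I _ hx))⟩
  · refine isOpen_mono (I := (I ^ n).closure) (J := (I.closure ^ n).closure)
      (closure_mono (Ideal.pow_right_mono (le_closure I) n)) (hopen n)

theorem isOpen_closure_pow_of_le {I J : Ideal A} (hJ : IsIdealOfDefinition A J)
    (hI : IsIdealOfDefinition A I) (hopen : ∀ n : ℕ, 0 < n → IsOpen (closure ((I ^ n : Ideal A) : Set A)))
    (n : ℕ) : IsOpen (closure ((J ^ n : Ideal A) : Set A)) := by
  rcases n.eq_zero_or_pos with rfl | hn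
  · simp
  obtain ⟨k, hk, hkJ⟩ := hI.2 _ (hJ.1.mem_nhds J.zero_mem)
  refine isOpen_mono (I := (I ^ (k * n)).closure) (J := (J ^ n).closure) ?_
    (hopen _ (Nat.mul_pos hk hn))
  rw [pow_mul]
  exact closure_mono (Ideal.pow_right_mono hkJ n)

theorem isWeaklyPreadic_of_idealOfDefinition [IsLinearTopology A A] {I : Ideal A}
    (hI : IsIdealOfDefinition A I)
    (hopen : ∀ n : ℕ, 0 < n → IsOpen (closure ((I ^ n : Ideal A) : Set A))) : IsWeaklyPreadic A := by
  refine ⟨inferInstance, I, isOpen_closure_pow_of_le hI hI hopen, fun W hW => ?_⟩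
  obtain ⟨U, hU, hUW⟩ := exists_isOpen_ideal_subset hW
  obtain ⟨n, -, hn⟩ := hI.2 _ (hU.mem_nhds U.zero_mem)
  exact ⟨n, subset_trans (closure_le hn hU) hUW⟩

theorem isWeaklyPreadic_of_isTaut {B : Type v} [CommRing B] [TopologicalSpace B]
    [IsTopologicalRing B] [IsLinearTopology B B] {φ : A →+* B} (hφ : IsTaut φ)
    (hA : IsWeaklyPreadic A) : IsWeaklyPreadic B := by
  obtain ⟨-, I, hopen, hbasis⟩ := hA
  refine ⟨inferInstance, I.map φ, fun n => ?_, fun W hW => ?_⟩
  · rw [← Ideal.map_pow]
    have h := hφ.2.1 (I ^ n).closure (hopen n)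
    rwa [← Ideal.coe_closure, closure_map_closure hφ.1, Ideal.coe_closure] at h
  · obtain ⟨J, hJ, hJW⟩ := hφ.2.2 W hW
    obtain ⟨n, hn⟩ := hbasis _ (hJ.mem_nhds J.zero_mem)
    refine ⟨n, ?_⟩
    rw [← Ideal.map_pow]
    exact subset_trans (closure_mono (Ideal.map_mono ((le_closure _).trans hn))) hJW

theorem isWeaklyPreadic_of_isPreadic (hA : IsPreadic A) : IsWeaklyPreadic A := by
  haveI := isLinearTopology_of_isPreadic hA
  obtain ⟨J, hJ⟩ := id hA
  refine isWeaklyPreadic_of_idealOfDefinition (isIdealOfDefinition_of_isAdic hJ) fun n _ => ?_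
  rw [closure_eq_self ((isAdic_iff.mp hJ).1 n)]
  exact (isAdic_iff.mp hJ).1 n

section Complete

variable {R : Type u} [CommRing R] [UniformSpace R] [IsUniformAddGroup R] [IsTopologicalRing R]
  [T2Space R] [CompleteSpace R]

/-- A complete ring whose topology is given by the closures of the powers of a finitely generated
ideal is adic. -/
theorem isAdic_of_closure_pow_basis (I : Ideal R) (hfg : I.FG)
    (hopen : ∀ n : ℕ, IsOpen (closure ((I ^ n : Ideal R) : Set R)))
    (hbasis : ∀ U ∈ 𝓝 (0 : R), ∃ n : ℕ, closure ((I ^ n : Ideal R) : Set R) ⊆ U) : IsAdic I := by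
  have hanti : ∀ {m n : ℕ}, m ≤ n → (I ^ n).closure ≤ (I ^ m).closure :=
    fun h => closure_mono (Ideal.pow_le_pow_right h)
  have key : ∀ N, (I ^ N).closure ≤ I ^ N := by
    intro N
    obtain ⟨r, x, hx⟩ := Submodule.fg_iff_exists_fin_generating_family.mp (Submodule.FG.pow hfg N)
    let f : (Fin r → R) →+ R :=
      { toFun := fun a => ∑ i, a i * x i
        map_zero' := by simp
        map_add' := fun a b => by simp [add_mul, Finset.sum_add_distrib] }
    have hf : Continuous f := by
      show Continuous fun a : Fin r → R => ∑ i, a i * x i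
      exact continuous_finsetSum _ fun i _ => (continuous_apply i).mul continuous_const
    let U : ℕ → AddSubgroup (Fin r → R) := fun m =>
      AddSubgroup.pi Set.univ fun _ => (I ^ m).closure.toAddSubgroup
    have hU : ∀ m a, a ∈ U m ↔ ∀ i, a i ∈ (I ^ m).closure := fun m a => by
      simp [U, AddSubgroup.mem_pi]
    have hUopen : ∀ m, IsOpen (U m : Set (Fin r → R)) := fun m => by
      rw [show (U m : Set (Fin r → R)) = ⋂ i, (fun a => a i) ⁻¹' ((I ^ m).closure : Set R) by
        ext a; simp only [SetLike.mem_coe, hU, Set.mem_iInter, Set.mem_preimage]]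
      exact isOpen_iInter_of_finite fun i => (hopen m).preimage (continuous_apply i)
    have himage : ∀ m, closure (f '' (U m : Set (Fin r → R))) = ((I ^ (N + m)).closure : Set R) := by
      intro m
      apply subset_antisymm
      · refine closure_minimal ?_ isClosed_closure
        rintro _ ⟨a, ha, rfl⟩
        show ∑ i, a i * x i ∈ (I ^ (N + m)).closure
        refine Submodule.sum_mem _ fun i _ => ?_
        have h1 : x i ∈ I ^ N := hx ▸ Submodule.subset_span ⟨i, rfl⟩
        have h2 := Ideal.mul_mem_mul ((hU m a).mp ha i) (le_closure (I ^ N) h1)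
        have h3 := closure_mul_closure_le (I ^ m) (I ^ N) h2
        rwa [← pow_add, add_comm] at h3
      · refine _root_.closure_mono fun z hz => ?_
        rw [SetLike.mem_coe, add_comm, pow_add] at hz
        refine Submodule.smul_induction_on (show z ∈ I ^ m • (I ^ N) from hz) (fun b hb c hc => ?_)
          (fun p q hp hq => ?_)
        · rw [← hx, Submodule.mem_span_range_iff_exists_fun] at hc
          obtain ⟨c, rfl⟩ := hc
          refine ⟨fun i => b * c i, (hU m _).mpr fun i => le_closure _ (Ideal.mul_mem_right _ _ hb), ?_⟩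
          show ∑ i, b * c i * x i = _
          simp only [smul_eq_mul, Finset.mul_sum, mul_assoc]
        · obtain ⟨a, ha, rfl⟩ := hp
          obtain ⟨b, hb, rfl⟩ := hq
          exact ⟨a + b, add_mem ha hb, map_add f a b⟩
    have hmain := image_eq_closure f hf U
      (fun m n h a ha => (hU m a).mpr fun i => hanti h ((hU n a).mp ha i)) hUopen
      (fun W hW => ?_) (fun m => by rw [himage]; exact hopen _)
      (fun W hW => (hbasis W hW).imp fun m hm => by
        rw [himage]; exact subset_trans (hanti (Nat.le_add_left m N)) hm) 0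
    · intro z hz
      have h0 : z ∈ f '' (U 0 : Set (Fin r → R)) := by rw [hmain, himage]; simpa [← Ideal.coe_closure] using hz
      obtain ⟨a, -, rfl⟩ := h0
      rw [← hx]
      exact Submodule.mem_span_range_iff_exists_fun _ |>.mpr ⟨a, rfl⟩
    · rw [nhds_pi, Filter.mem_pi] at hW
      obtain ⟨S, hS, t, ht, htW⟩ := hW
      choose m hm using fun i : Fin r => hbasis _ (ht i)
      refine ⟨Finset.univ.sup m, fun a ha => htW fun i _ => hm i ?_⟩
      exact hanti (Finset.le_sup (Finset.mem_univ i)) ((hU _ a).mp ha i)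
  refine isAdic_iff.mpr ⟨fun n => isOpen_mono (key n) (hopen n),
    fun W hW => (hbasis W hW).imp fun n hn => subset_trans subset_closure hn⟩

end Complete

end LinTopLib
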