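import Groth.Agent.LinTopLib.Completion
import Groth.Prelude.Def_W4stk3formalspacesTaut
import Mathlib.Topology.Algebra.Ring.Ideal
import Mathlib.Topology.Algebra.TopologicallyNilpotent

/-!
# Closures of ideals in linearly topologized rings
-/

set_option autoImplicit false

namespace LinTopLib

universe u v w

open Filter Topology LinTop

section Module

variable {R : Type u} [Ring R] {M : Type v} [AddCommGroup M] [Module R M] [TopologicalSpace M]
  [IsTopologicalAddGroup M]

theorem closure_submodule_eq_iInter {ι : Type w} (B : ι → Submodule R M)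
    (hB : (𝓝 (0 : M)).HasBasis (fun _ => True) (fun i => (B i : Set M))) (N : Submodule R M) :
    closure (N : Set M) = ⋂ i, ((N ⊔ B i : Submodule R M) : Set M) := by
  ext x
  rw [Set.mem_iInter, mem_closure_iff_nhds]
  constructor
  · intro h i
    have h1 : (fun y => x - y) ⁻¹' (B i : Set M) ∈ 𝓝 x :=
      (continuous_const.sub continuous_id).continuousAt.preimage_mem_nhds
        (by rw [Pi.sub_apply, id_eq, sub_self]; exact hB.mem_of_mem trivial)
    obtain ⟨y, hy, hyN⟩ := h _ h1
    exact Submodule.mem_sup.mpr ⟨y, hyN, x - y, hy, add_sub_cancel y x⟩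
  · intro h W hW
    have h1 : (fun y => x - y) ⁻¹' W ∈ 𝓝 (0 : M) :=
      (continuous_const.sub continuous_id).continuousAt.preimage_mem_nhds
        (by rwa [Pi.sub_apply, id_eq, sub_zero])
    obtain ⟨i, -, hi⟩ := hB.mem_iff.mp h1
    obtain ⟨y, hy, z, hz, rfl⟩ := Submodule.mem_sup.mp (h i)
    exact ⟨y, by simpa using hi hz, hy⟩

end Module

variable {A : Type u} [CommRing A] [TopologicalSpace A] [IsTopologicalRing A]

theorem le_closure (I : Ideal A) : I ≤ I.closure := fun _ hx => subset_closure hx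

theorem isClosed_of_isOpen {I : Ideal A} (hI : IsOpen (I : Set A)) : IsClosed (I : Set A) :=
  I.toAddSubgroup.isClosed_of_isOpen hI

theorem closure_eq_self {I : Ideal A} (hI : IsOpen (I : Set A)) : closure (I : Set A) = I :=
  (isClosed_of_isOpen hI).closure_eq

theorem closure_le_of_isClosed {I J : Ideal A} (h : I ≤ J) (hJ : IsClosed (J : Set A)) :
    I.closure ≤ J :=
  closure_minimal (fun _ hx => h hx) hJ

theorem closure_le {I J : Ideal A} (h : I ≤ J) (hJ : IsOpen (J : Set A)) : I.closure ≤ J :=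
  closure_le_of_isClosed h (isClosed_of_isOpen hJ)

theorem closure_mono {I J : Ideal A} (h : I ≤ J) : I.closure ≤ J.closure :=
  _root_.closure_mono (fun _ hx => h hx)

theorem closure_top : (⊤ : Ideal A).closure = ⊤ := eq_top_iff.mpr (le_closure _)

theorem isOpen_mono {I J : Ideal A} (h : I ≤ J) (hI : IsOpen (I : Set A)) : IsOpen (J : Set A) :=
  Submodule.isOpen_mono h hI

theorem isOpen_inf {I J : Ideal A} (hI : IsOpen (I : Set A)) (hJ : IsOpen (J : Set A)) :
    IsOpen ((I ⊓ J : Ideal A) : Set A) := hI.inter hJ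

theorem closure_eq_iInter [IsLinearTopology A A] (N : Ideal A) {x : A} :
    x ∈ N.closure ↔ ∀ U : Ideal A, IsOpen (U : Set A) → x ∈ N ⊔ U := by
  have hB : (𝓝 (0 : A)).HasBasis (fun _ => True)
      (fun U : {U : Ideal A // IsOpen (U : Set A)} => (U.1 : Set A)) :=
    ⟨fun W => ⟨fun hW => let ⟨U, hU, hUW⟩ := exists_isOpen_ideal_subset hW; ⟨⟨U, hU⟩, trivial, hUW⟩,
      fun ⟨U, _, hUW⟩ => mem_of_superset (U.2.mem_nhds U.1.zero_mem) hUW⟩⟩
  show x ∈ closure (N : Set A) ↔ _
  rw [closure_submodule_eq_iInter (fun U : {U : Ideal A // IsOpen (U : Set A)} => U.1) hB N,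
    Set.mem_iInter, Subtype.forall]
  rfl

theorem closure_mul_closure_le (I J : Ideal A) : I.closure * J.closure ≤ (I * J).closure := by
  refine Ideal.mul_le.mpr fun x hx y hy => ?_
  exact map_mem_closure₂ continuous_mul hx hy fun a ha b hb => Ideal.mul_mem_mul ha hb

theorem closure_pow_le (I : Ideal A) : ∀ n : ℕ, I.closure ^ n ≤ (I ^ n).closure
  | 0 => by rw [pow_zero, pow_zero]; exact le_closure _
  | n + 1 => by
    rw [pow_succ, pow_succ]
    exact (Ideal.mul_mono_left (closure_pow_le I n)).trans (closure_mul_closure_le _ _)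

theorem isClosed_topologicalNilradical [IsLinearTopology A A] :
    IsClosed ((topologicalNilradical A : Ideal A) : Set A) := by
  refine closure_subset_iff_isClosed.mp fun f hf => ?_
  have hfc : f ∈ (topologicalNilradical A).closure := hf
  show IsTopologicallyNilpotent f
  intro W hW
  obtain ⟨U, hU, hUW⟩ := exists_isOpen_ideal_subset hW
  obtain ⟨g, hg, u, hu, rfl⟩ := Submodule.mem_sup.mp ((closure_eq_iInter _).mp hfc U hU)
  have hg' : IsTopologicallyNilpotent g := hg
  show ∀ᶠ n in atTop, (g + u) ^ n ∈ W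
  filter_upwards [hg'.eventually_mem (hU.mem_nhds U.zero_mem)] with n hn
  refine hUW ?_
  have h : (g + u) ^ n - g ^ n ∈ U := by
    rw [← Ideal.Quotient.eq_zero_iff_mem, map_sub, map_pow, map_pow, map_add,
      Ideal.Quotient.eq_zero_iff_mem.mpr hu, add_zero, sub_self]
  simpa using U.add_mem h hn

theorem isTopologicallyNilpotent_of_mem_idealOfDefinition {I : Ideal A}
    (hI : IsIdealOfDefinition A I) {x : A} (hx : x ∈ I) : IsTopologicallyNilpotent x := by
  intro W hW
  obtain ⟨k, -, hk⟩ := hI.2 W hW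
  show ∀ᶠ n in atTop, x ^ n ∈ W
  filter_upwards [eventually_ge_atTop k] with n hn
  exact hk (Ideal.pow_le_pow_right hn (Ideal.pow_mem_pow hx n))

section Hom

variable {B : Type v} [CommRing B] [TopologicalSpace B] [IsTopologicalRing B]

set_option linter.unusedSectionVars false

theorem map_closure_le {φ : A →+* B} (hφ : Continuous φ) (I : Ideal A) :
    I.closure.map φ ≤ (I.map φ).closure :=
  Ideal.map_le_iff_le_comap.mpr fun _ hx =>
    map_mem_closure hφ hx fun _ hy => Ideal.mem_map_of_mem φ hy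

theorem closure_map_closure {φ : A →+* B} (hφ : Continuous φ) (I : Ideal A) :
    (I.closure.map φ).closure = (I.map φ).closure :=
  le_antisymm (closure_le_of_isClosed (map_closure_le hφ I) isClosed_closure)
    (closure_mono (Ideal.map_mono (le_closure I)))

theorem isOpen_comap {φ : A →+* B} (hφ : Continuous φ) {J : Ideal B} (hJ : IsOpen (J : Set B)) :
    IsOpen ((J.comap φ : Ideal A) : Set A) := hJ.preimage hφ

theorem isTopologicallyNilpotent_of_mem_closure_map [IsLinearTopology B B] {φ : A →+* B}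
    (hφ : Continuous φ) {I : Ideal A} (hI : ∀ f ∈ I, IsTopologicallyNilpotent f) {g : B}
    (hg : g ∈ (I.map φ).closure) : IsTopologicallyNilpotent g := by
  have h : (I.map φ).closure ≤ topologicalNilradical B :=
    closure_le_of_isClosed (Ideal.map_le_iff_le_comap.mpr fun f hf => (hI f hf).map hφ)
      isClosed_topologicalNilradical
  exact h hg

/-- For a taut map the images of open ideals give the topology. -/
theorem IsTaut.exists_le {φ : A →+* B} (hφ : IsTaut φ) {J : Ideal B} (hJ : IsOpen (J : Set B)) :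
    ∃ I : Ideal A, IsOpen (I : Set A) ∧ (I.map φ).closure ≤ J :=
  hφ.2.2 _ (hJ.mem_nhds J.zero_mem)

theorem isWeakIdealOfDefinition_closure_map [IsLinearTopology B B] {φ : A →+* B} (hφ : IsTaut φ)
    {I : Ideal A} (hI : IsWeakIdealOfDefinition A I) :
    IsWeakIdealOfDefinition B (I.map φ).closure :=
  ⟨hφ.2.1 I hI.1, fun _ hg => isTopologicallyNilpotent_of_mem_closure_map hφ.1 hI.2 hg⟩

theorem isIdealOfDefinition_closure_map {φ : A →+* B} (hφ : IsTaut φ) {I : Ideal A}
    (hI : IsIdealOfDefinition A I) : IsIdealOfDefinition B (I.map φ).closure := by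
  refine ⟨hφ.2.1 I hI.1, fun W hW => ?_⟩
  obtain ⟨I₀, hI₀, hI₀W⟩ := hφ.2.2 W hW
  obtain ⟨n, hn, hnI⟩ := hI.2 _ (hI₀.mem_nhds I₀.zero_mem)
  refine ⟨n, hn, fun x hx => hI₀W (closure_mono (Ideal.map_mono hnI) ?_)⟩
  rw [Ideal.map_pow]
  exact closure_pow_le _ n hx

/-- Tautness in the faithfully flat situation detects membership in open ideals. -/
theorem comap_closure_map_eq {φ : A →+* B} (hφ : IsTautFFlat φ) {I : Ideal A}
    (hI : IsOpen (I : Set A)) : (I.map φ).closure.comap φ = I := by
  refine le_antisymm (fun x hx => ?_) (Ideal.map_le_iff_le_comap.mp (le_closure _))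
  have h := (hφ.2 I hI).injective
  rw [← Ideal.Quotient.eq_zero_iff_mem]
  refine h ?_
  rw [map_zero, descentMap, Ideal.quotientMap_mk, Ideal.Quotient.eq_zero_iff_mem]
  exact hx

theorem mem_sup_of_mem_closure_map_sup {φ : A →+* B} (hφ : IsTautFFlat φ) {I N : Ideal A}
    (hI : IsOpen (I : Set A)) {x : A} (hx : φ x ∈ N.map φ ⊔ (I.map φ).closure) : x ∈ N ⊔ I := by
  have hop : IsOpen ((N ⊔ I : Ideal A) : Set A) := isOpen_mono le_sup_right hI
  rw [← comap_closure_map_eq hφ hop, Ideal.mem_comap]
  refine (show N.map φ ⊔ (I.map φ).closure ≤ ((N ⊔ I).map φ).closure from sup_le ?_ ?_) hx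
  · exact (Ideal.map_mono le_sup_left).trans (le_closure _)
  · exact closure_mono (Ideal.map_mono le_sup_right)

end Hom

end LinTopLib
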