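import Mathlib.Topology.Algebra.LinearTopology
import Mathlib.Topology.Algebra.UniformRing
import Mathlib.Topology.Algebra.Ring.Ideal
import Mathlib.RingTheory.Ideal.Maps

/-!
# Linearly topologized rings and their completions
-/

set_option autoImplicit false

namespace LinTopLib

universe u

open UniformSpace

variable {A : Type u} [CommRing A]

/-- An ideal containing a neighbourhood of zero is open. -/
theorem isOpen_ideal_of_mem_nhds [TopologicalSpace A] [IsTopologicalRing A] {J : Ideal A}
    (h : (J : Set A) ∈ nhds 0) : IsOpen (J : Set A) :=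
  J.toAddSubgroup.isOpen_of_mem_nhds h

theorem isOpen_closure_ideal_of_mem_nhds [TopologicalSpace A] [IsTopologicalRing A] {J : Ideal A}
    (h : closure (J : Set A) ∈ nhds 0) : IsOpen (closure (J : Set A)) := by
  rw [← Ideal.coe_closure] at h ⊢
  exact isOpen_ideal_of_mem_nhds h

/-- Every neighbourhood of zero of a linearly topologized ring contains an open ideal. -/
theorem exists_isOpen_ideal_subset [TopologicalSpace A] [IsTopologicalRing A] [IsLinearTopology A A] {U : Set A}
    (hU : U ∈ nhds 0) : ∃ I : Ideal A, IsOpen (I : Set A) ∧ (I : Set A) ⊆ U := by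
  obtain ⟨I, hI, hIU⟩ := (IsLinearTopology.hasBasis_open_ideal (R := A)).mem_iff.mp hU
  exact ⟨I, hI, hIU⟩

variable [UniformSpace A] [IsUniformAddGroup A] [IsTopologicalRing A]

/-- The ideal of the completion generated by the image of `I` lies in the closure of that image. -/
theorem map_coe_subset_closure_image (I : Ideal A) :
    ((I.map (Completion.coeRingHom : A →+* Completion A) : Ideal (Completion A)) : Set (Completion A))
      ⊆ closure ((↑) '' (I : Set A)) := by
  intro z hz
  refine Submodule.span_induction (p := fun z _ => z ∈ closure ((↑) '' (I : Set A)))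
    (fun x hx => subset_closure hx) (subset_closure ⟨0, I.zero_mem, Completion.coe_zero⟩)
    (fun x y _ _ hx hy => ?_) (fun a x _ hx => ?_) hz
  · refine map_mem_closure₂ continuous_add hx hy ?_
    rintro _ ⟨x, hx, rfl⟩ _ ⟨y, hy, rfl⟩
    exact ⟨x + y, I.add_mem hx hy, Completion.coe_add x y⟩
  · rw [smul_eq_mul]
    refine map_mem_closure₂ continuous_mul (Completion.denseRange_coe a) hx ?_
    rintro _ ⟨a, rfl⟩ _ ⟨x, hx, rfl⟩
    exact ⟨a * x, I.mul_mem_left a hx, Completion.coe_mul a x⟩

theorem closure_map_coe_eq (I : Ideal A) :
    closure ((I.map (Completion.coeRingHom : A →+* Completion A) : Ideal (Completion A)) :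
      Set (Completion A)) = closure ((↑) '' (I : Set A)) := by
  refine subset_antisymm (closure_minimal (map_coe_subset_closure_image I) isClosed_closure)
    (closure_mono ?_)
  rintro _ ⟨x, hx, rfl⟩
  exact Ideal.mem_map_of_mem _ hx

omit [IsUniformAddGroup A] [IsTopologicalRing A] in
theorem closure_image_mem_nhds {I : Ideal A} (hI : IsOpen (I : Set A)) :
    closure ((↑) '' (I : Set A) : Set (Completion A)) ∈ nhds (0 : Completion A) := by
  rw [← Completion.coe_zero]
  exact Completion.isDenseInducing_coe.closure_image_mem_nhds (hI.mem_nhds I.zero_mem)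

theorem isOpen_closure_map_coe {I : Ideal A} (hI : IsOpen (I : Set A)) :
    IsOpen (closure ((I.map (Completion.coeRingHom : A →+* Completion A) :
      Ideal (Completion A)) : Set (Completion A))) :=
  isOpen_closure_ideal_of_mem_nhds (closure_map_coe_eq I ▸ closure_image_mem_nhds hI)

/-- The closures of the extensions of open ideals form a basis at zero of the completion. -/
theorem exists_closure_map_coe_subset [IsLinearTopology A A] {U : Set (Completion A)}
    (hU : U ∈ nhds 0) : ∃ I : Ideal A, IsOpen (I : Set A) ∧
      closure ((I.map (Completion.coeRingHom : A →+* Completion A) : Ideal (Completion A)) :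
        Set (Completion A)) ⊆ U := by
  obtain ⟨C, hC, hCclosed, hCU⟩ := exists_mem_nhds_isClosed_subset hU
  have h0 : ((↑) : A → Completion A) ⁻¹' C ∈ nhds 0 :=
    (Completion.continuous_coe A).continuousAt (by rwa [Completion.coe_zero])
  obtain ⟨I, hI, hIC⟩ := exists_isOpen_ideal_subset h0
  refine ⟨I, hI, (closure_map_coe_eq I).subset.trans (subset_trans ?_ hCU)⟩
  exact closure_minimal (by rintro _ ⟨x, hx, rfl⟩; exact hIC hx) hCclosed

end LinTopLib
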