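import Groth.Agent.LinTopLib.Adic

/-!
# Dense images, descent along taut faithfully flat maps
-/

set_option autoImplicit false
set_option linter.unusedSectionVars false

namespace LinTopLib

universe u v

open Filter Topology LinTop

variable {A : Type u} [CommRing A] [TopologicalSpace A] [IsTopologicalRing A]
  {B : Type v} [CommRing B] [TopologicalSpace B] [IsTopologicalRing B]

/-- For a map with dense range the ideal generated by an image lies in its closure. -/
theorem closure_image_eq_of_denseRange {φ : A →+* B} (hd : DenseRange φ) (I : Ideal A) :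
    closure (φ '' (I : Set A)) = ((I.map φ).closure : Set B) := by
  refine subset_antisymm (_root_.closure_mono fun _ ⟨x, hx, h⟩ => h ▸ Ideal.mem_map_of_mem φ hx)
    (closure_minimal ?_ isClosed_closure)
  intro z hz
  refine Submodule.span_induction (p := fun z _ => z ∈ closure (φ '' (I : Set A)))
    (fun x hx => subset_closure hx) (subset_closure ⟨0, I.zero_mem, map_zero φ⟩)
    (fun x y _ _ hx hy => ?_) (fun a x _ hx => ?_) hz
  · refine map_mem_closure₂ continuous_add hx hy ?_
    rintro _ ⟨x, hx, rfl⟩ _ ⟨y, hy, rfl⟩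
    exact ⟨x + y, I.add_mem hx hy, map_add φ x y⟩
  · rw [smul_eq_mul]
    refine map_mem_closure₂ continuous_mul (hd a) hx ?_
    rintro _ ⟨a, rfl⟩ _ ⟨x, hx, rfl⟩
    exact ⟨a * x, I.mul_mem_left a hx, map_mul φ a x⟩

theorem mem_closure_of_map_mem_closure [IsLinearTopology A A] [IsLinearTopology B B] {φ : A →+* B}
    (hφ : IsTautFFlat φ) {N : Ideal A} {x : A} (hx : φ x ∈ (N.map φ).closure) : x ∈ N.closure :=
  (closure_eq_iInter N).mpr fun U hU => mem_sup_of_mem_closure_map_sup hφ hU
    ((closure_eq_iInter _).mp hx _ (hφ.1.2.1 U hU))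

theorem isOpen_closure_of_isOpen_closure_map [IsLinearTopology A A] [IsLinearTopology B B]
    {φ : A →+* B} (hφ : IsTautFFlat φ) {N : Ideal A}
    (h : IsOpen ((N.map φ).closure : Set B)) : IsOpen (N.closure : Set A) := by
  obtain ⟨I, hI, hIN⟩ := IsTaut.exists_le hφ.1 h
  exact isOpen_mono (fun x hx => mem_closure_of_map_mem_closure hφ
    (hIN (le_closure _ (Ideal.mem_map_of_mem φ hx)))) hI

theorem exists_idealOfDefinition_of_isTautFFlat [IsLinearTopology A A] {φ : A →+* B}
    (hφ : IsTautFFlat φ) {K : Ideal B} (hK : IsIdealOfDefinition B K) :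
    ∃ I : Ideal A, IsIdealOfDefinition A I ∧ (I.map φ).closure ≤ K := by
  obtain ⟨I, hI, hIK⟩ := IsTaut.exists_le hφ.1 hK.1
  refine ⟨I, ⟨hI, fun U hU => ?_⟩, hIK⟩
  obtain ⟨J, hJ, hJU⟩ := exists_isOpen_ideal_subset hU
  obtain ⟨n, hn, hnK⟩ := hK.2 _ ((hφ.1.2.1 J hJ).mem_nhds ((J.map φ).closure).zero_mem)
  refine ⟨n, hn, fun x hx => hJU ?_⟩
  rw [← comap_closure_map_eq hφ hJ]
  refine hnK (Ideal.pow_right_mono ((le_closure _).trans hIK) n ?_)
  rw [← Ideal.map_pow]
  exact Ideal.mem_map_of_mem φ hx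

theorem isLinearTopology_completion {R : Type u} [CommRing R] [UniformSpace R] [IsUniformAddGroup R]
    [IsTopologicalRing R] [IsLinearTopology R R] :
    IsLinearTopology (UniformSpace.Completion R) (UniformSpace.Completion R) := by
  refine IsLinearTopology.mk_of_hasBasis' (UniformSpace.Completion R)
    (p := fun _ : {I : Ideal R // IsOpen (I : Set R)} => True)
    (s := fun I : {I : Ideal R // IsOpen (I : Set R)} =>
      (I.1.map (UniformSpace.Completion.coeRingHom : R →+* UniformSpace.Completion R)).closure)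
    ⟨fun U => ⟨fun hU => ?_, fun ⟨I, _, hI⟩ => Filter.mem_of_superset
      ((isOpen_closure_map_coe I.2).mem_nhds (Ideal.zero_mem (Ideal.closure _))) hI⟩⟩
    (fun s a _ hm => Ideal.mul_mem_left s a hm)
  obtain ⟨I, hI, hIU⟩ := exists_closure_map_coe_subset hU
  exact ⟨⟨I, hI⟩, trivial, hIU⟩

end LinTopLib
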