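import Groth.Agent.LinTopLib.OpenMapping
import Mathlib.Topology.Algebra.GroupCompletion
import Mathlib.Topology.Algebra.IsUniformGroup.Basic
import Mathlib.Topology.Algebra.Group.Quotient

/-!
# Completions of non-archimedean abelian groups
-/

set_option autoImplicit false

namespace LinTopLib

universe u v

open Filter Topology UniformSpace

variable {M : Type u} [AddCommGroup M] [UniformSpace M] [IsUniformAddGroup M]

/-- The closure in the completion of the image of a subgroup. -/
noncomputable def complSubgroup (U : AddSubgroup M) : AddSubgroup (Completion M) :=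
  closureImage (Completion.toCompl : M →+ Completion M) U

theorem coe_complSubgroup (U : AddSubgroup M) :
    (complSubgroup U : Set (Completion M)) = closure ((↑) '' (U : Set M)) := rfl

theorem isOpen_complSubgroup {U : AddSubgroup M} (hU : IsOpen (U : Set M)) :
    IsOpen (complSubgroup U : Set (Completion M)) := by
  refine AddSubgroup.isOpen_of_mem_nhds _ (g := 0) ?_
  rw [coe_complSubgroup, ← Completion.coe_zero]
  exact Completion.isDenseInducing_coe.closure_image_mem_nhds (hU.mem_nhds U.zero_mem)

theorem coe_mem_complSubgroup_iff {U : AddSubgroup M} (hU : IsOpen (U : Set M)) (m : M) :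
    (m : Completion M) ∈ complSubgroup U ↔ m ∈ U := by
  rw [← SetLike.mem_coe, coe_complSubgroup]
  have h := Completion.isDenseInducing_coe.toIsInducing.closure_eq_preimage_closure_image (U : Set M)
  rw [(U.isClosed_of_isOpen hU).closure_eq] at h
  exact (Set.ext_iff.mp h m).symm

theorem exists_complSubgroup_subset
    (hbasis : ∀ W ∈ 𝓝 (0 : M), ∃ U : AddSubgroup M, IsOpen (U : Set M) ∧ (U : Set M) ⊆ W)
    {W : Set (Completion M)} (hW : W ∈ 𝓝 0) :
    ∃ U : AddSubgroup M, IsOpen (U : Set M) ∧ (complSubgroup U : Set (Completion M)) ⊆ W := by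
  obtain ⟨C, hC, hCc, hCW⟩ := exists_mem_nhds_isClosed_subset hW
  obtain ⟨U, hU, hUC⟩ := hbasis _ ((Completion.continuous_coe M).continuousAt (x := 0)
    (by rw [Completion.coe_zero]; exact hC))
  exact ⟨U, hU, subset_trans (closure_minimal (by rintro _ ⟨x, hx, rfl⟩; exact hUC hx) hCc) hCW⟩

theorem exists_antitone_open_basis
    (hbasis : ∀ W ∈ 𝓝 (0 : M), ∃ U : AddSubgroup M, IsOpen (U : Set M) ∧ (U : Set M) ⊆ W)
    (hc : (𝓝 (0 : M)).IsCountablyGenerated) :
    ∃ U : ℕ → AddSubgroup M, Antitone U ∧ U 0 = ⊤ ∧ (∀ n, IsOpen (U n : Set M)) ∧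
      ∀ W ∈ 𝓝 (0 : M), ∃ n, (U n : Set M) ⊆ W := by
  haveI := hc
  obtain ⟨S, hS⟩ := (𝓝 (0 : M)).exists_antitone_basis
  choose I hI hIS using fun n => hbasis _ (hS.1.mem_of_mem (i := n) trivial)
  let J : ℕ → AddSubgroup M := fun n => Nat.rec (motive := fun _ => AddSubgroup M) ⊤
    (fun k Jk => Jk ⊓ I k) n
  refine ⟨J, antitone_nat_of_succ_le fun n => inf_le_left, rfl, fun n => ?_, fun W hW => ?_⟩
  · induction n with
    | zero => exact isOpen_univ
    | succ n ih => exact ih.inter (hI n)
  · obtain ⟨n, -, hn⟩ := hS.1.mem_iff.mp hW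
    exact ⟨n + 1, fun x hx => hn (hIS n hx.2)⟩

section Quotient

variable {Q : Type v} [AddCommGroup Q] [UniformSpace Q] [IsUniformAddGroup Q]

theorem ker_completion_eq (q : M →+ Q) (hq : Continuous q) (hopen : IsOpenMap q)
    (hbasis : ∀ W ∈ 𝓝 (0 : M), ∃ U : AddSubgroup M, IsOpen (U : Set M) ∧ (U : Set M) ⊆ W) :
    (q.completion hq) ⁻¹' {0} = closure ((↑) '' (q.ker : Set M) : Set (Completion M)) := by
  have hF := q.continuous_completion hq
  refine subset_antisymm (fun x hx => ?_) (closure_minimal ?_ (isClosed_singleton.preimage hF))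
  · rw [mem_closure_iff_nhds]
    intro W hW
    obtain ⟨U, hU, hUW⟩ := exists_complSubgroup_subset hbasis
      ((continuous_const_add x).continuousAt.preimage_mem_nhds
        (show W ∈ 𝓝 (x + (0 : Completion M)) by rwa [add_zero]))
    obtain ⟨m, hm⟩ : ∃ m : M, (m : Completion M) - x ∈ complSubgroup U := by
      obtain ⟨m, hy⟩ := Completion.denseRange_coe.exists_mem_open
        ((isOpen_complSubgroup hU).preimage (continuous_id.sub continuous_const))
        ⟨x, show x - x ∈ complSubgroup U by rw [sub_self]; exact zero_mem _⟩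
      exact ⟨m, hy⟩
    have himg : IsOpen ((U.map q : AddSubgroup Q) : Set Q) := hopen _ hU
    have hqm : q m ∈ U.map q := by
      rw [← coe_mem_complSubgroup_iff himg, ← q.completion_coe hq]
      rw [show q.completion hq (m : Completion M) = q.completion hq ((m : Completion M) - x) by
        rw [map_sub, Set.mem_singleton_iff.mp hx, sub_zero]]
      refine map_mem_closure hF hm ?_
      rintro _ ⟨u, hu, rfl⟩
      exact ⟨q u, ⟨u, hu, rfl⟩, (q.completion_coe hq u).symm⟩
    obtain ⟨u, hu, huq⟩ := hqm
    refine ⟨((m - u : M) : Completion M), ?_, ⟨m - u, ?_, rfl⟩⟩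
    · have h := hUW (sub_mem hm ((coe_mem_complSubgroup_iff hU u).mpr hu))
      rw [Set.mem_preimage] at h
      convert! h using 1
      rw [Completion.coe_sub]; abel
    · show q (m - u) = 0
      rw [map_sub, huq, sub_self]
  · rintro _ ⟨n, hn, rfl⟩
    rw [Set.mem_preimage, Set.mem_singleton_iff, q.completion_coe hq, (hn : q n = 0), Completion.coe_zero]

theorem completion_surjective_isOpenMap (q : M →+ Q) (hq : Continuous q) (hopen : IsOpenMap q)
    (hsurj : Function.Surjective q)
    (hbasis : ∀ W ∈ 𝓝 (0 : M), ∃ U : AddSubgroup M, IsOpen (U : Set M) ∧ (U : Set M) ⊆ W)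
    (hc : (𝓝 (0 : M)).IsCountablyGenerated) :
    Function.Surjective (q.completion hq) ∧ IsOpenMap (q.completion hq) := by
  obtain ⟨U, hanti, h0, hU, hUb⟩ := exists_antitone_open_basis hbasis hc
  let f := q.completion hq
  have hF : Continuous f := q.continuous_completion hq
  let V : ℕ → AddSubgroup (Completion M) := fun n => complSubgroup (U n)
  have hVanti : Antitone V := fun m n h x hx => closure_mono (Set.image_mono (hanti h)) hx
  have hVb : ∀ W ∈ 𝓝 (0 : Completion M), ∃ n, (V n : Set (Completion M)) ⊆ W := fun W hW => by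
    obtain ⟨U', hU', hU'W⟩ := exists_complSubgroup_subset hbasis hW
    obtain ⟨n, hn⟩ := hUb _ (hU'.mem_nhds U'.zero_mem)
    exact ⟨n, subset_trans (closure_mono (Set.image_mono hn)) hU'W⟩
  have himg : ∀ n, closure (f '' (V n : Set (Completion M))) =
      (complSubgroup ((U n).map q) : Set (Completion Q)) := fun n => by
    rw [coe_complSubgroup, coe_complSubgroup]
    refine subset_antisymm (closure_minimal ?_ isClosed_closure) (closure_mono ?_)
    · rintro _ ⟨x, hx, rfl⟩
      refine map_mem_closure hF hx ?_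
      rintro _ ⟨u, hu, rfl⟩
      exact ⟨q u, ⟨u, hu, rfl⟩, (q.completion_coe hq u).symm⟩
    · rintro _ ⟨_, ⟨u, hu, rfl⟩, rfl⟩
      exact ⟨u, subset_closure ⟨u, hu, rfl⟩, q.completion_coe hq u⟩
  have hopen' : ∀ n, IsOpen (closure (f '' (V n : Set (Completion M)))) := fun n => by
    rw [himg]; exact isOpen_complSubgroup (hopen _ (hU n))
  have hbasis' : ∀ W ∈ 𝓝 (0 : Completion Q), ∃ n, closure (f '' (V n : Set (Completion M))) ⊆ W := by
    intro W hW
    obtain ⟨C, hC, hCc, hCW⟩ := exists_mem_nhds_isClosed_subset hW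
    obtain ⟨n, hn⟩ := hUb _ (((Completion.continuous_coe Q).comp hq).continuousAt (x := 0)
      (by rw [Function.comp_apply, map_zero, Completion.coe_zero]; exact hC))
    refine ⟨n, (himg n).subset.trans (subset_trans (closure_minimal ?_ hCc) hCW)⟩
    rintro _ ⟨_, ⟨u, hu, rfl⟩, rfl⟩
    exact hn hu
  refine ⟨fun y => ?_, isOpenMap_of_image f hF V hVanti (fun n => isOpen_complSubgroup (hU n)) hVb
    hopen' hbasis'⟩
  have h := image_eq_closure f hF V hVanti (fun n => isOpen_complSubgroup (hU n)) hVb hopen' hbasis' 0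
  have hy : y ∈ closure (f '' (V 0 : Set (Completion M))) := by
    rw [himg, h0, coe_complSubgroup, AddSubgroup.map_top_of_surjective q hsurj, AddSubgroup.coe_top,
      Set.image_univ]
    exact Completion.denseRange_coe y
  obtain ⟨x, -, hx⟩ := h.ge hy
  exact ⟨x, hx⟩

end Quotient

end LinTopLib
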