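import Groth.Agent.LinTopLib.Adic
import Mathlib.RingTheory.Ideal.Quotient.Operations
import Mathlib.RingTheory.Nilpotent.Lemmas

/-!
# Ideals of definition
-/

set_option autoImplicit false
set_option linter.unusedSectionVars false

namespace LinTopLib

universe u

open Filter Topology LinTop

variable {A : Type u} [CommRing A] [TopologicalSpace A] [IsTopologicalRing A]

theorem sup_pow_le (I J : Ideal A) : ∀ n, (I ⊔ J) ^ n ≤ I ⊔ J ^ n
  | 0 => by simp
  | n + 1 => by
    rw [pow_succ, pow_succ]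
    refine (Ideal.mul_mono (sup_pow_le I J n) le_rfl).trans ?_
    rw [Ideal.sup_mul, Ideal.mul_sup (J ^ n)]
    exact sup_le (Ideal.mul_le_left.trans le_sup_left)
      (sup_le (Ideal.mul_le_right.trans le_sup_left) le_sup_right)

theorem isIdealOfDefinition_of_pow_le {I J : Ideal A} (hI : IsIdealOfDefinition A I)
    (hJ : IsOpen (J : Set A)) {n : ℕ} (hn : J ^ n ≤ I) : IsIdealOfDefinition A J := by
  refine ⟨hJ, fun U hU => ?_⟩
  obtain ⟨m, hm, hmU⟩ := hI.2 U hU
  refine ⟨n * m + 1, Nat.succ_pos _, subset_trans (fun x hx => ?_) hmU⟩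
  have h : J ^ (n * m + 1) ≤ I ^ m := (Ideal.pow_le_pow_right (Nat.le_succ _)).trans
    (by rw [pow_mul]; exact Ideal.pow_right_mono hn m)
  exact h hx

theorem isIdealOfDefinition_sup {I J : Ideal A} (hI : IsIdealOfDefinition A I) {n : ℕ}
    (hn : J ^ n ≤ I) : IsIdealOfDefinition A (I ⊔ J) :=
  isIdealOfDefinition_of_pow_le hI (isOpen_mono le_sup_left hI.1)
    ((sup_pow_le I J n).trans (sup_le le_rfl hn))

theorem isTopologicallyNilpotent_iff {I : Ideal A} (hI : IsIdealOfDefinition A I) {x : A} :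
    IsTopologicallyNilpotent x ↔ ∃ k, x ^ k ∈ I := by
  refine ⟨fun h => (h.eventually_mem (hI.1.mem_nhds I.zero_mem)).exists, fun ⟨k, hk⟩ U hU => ?_⟩
  obtain ⟨m, -, hm⟩ := hI.2 U hU
  show ∀ᶠ n in atTop, x ^ n ∈ U
  filter_upwards [eventually_ge_atTop (k * m)] with n hn
  refine hm ?_
  rw [← Nat.add_sub_cancel' hn, pow_add, pow_mul]
  exact (I ^ m).mul_mem_right _ (Ideal.pow_mem_pow hk m)

theorem isTopologicallyNilpotent_iff_mem_radical {I : Ideal A} (hI : IsIdealOfDefinition A I) {x : A} :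
    IsTopologicallyNilpotent x ↔ x ∈ I.radical :=
  isTopologicallyNilpotent_iff hI

theorem exists_idealOfDefinition_mem {I : Ideal A} (hI : IsIdealOfDefinition A I) {x : A}
    (hx : IsTopologicallyNilpotent x) : ∃ J, IsIdealOfDefinition A J ∧ I ≤ J ∧ x ∈ J := by
  obtain ⟨k, hk⟩ := (isTopologicallyNilpotent_iff hI).mp hx
  refine ⟨I ⊔ Ideal.span {x}, isIdealOfDefinition_sup hI (n := k) ?_, le_sup_left,
    le_sup_right (a := I) (Ideal.mem_span_singleton_self x)⟩
  rw [Ideal.span_singleton_pow, Ideal.span_singleton_le_iff_mem]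
  exact hk

theorem exists_largest_iff {I : Ideal A} (hI : IsIdealOfDefinition A I) :
    (∃ I₀ : Ideal A, IsIdealOfDefinition A I₀ ∧ ∀ J : Ideal A, IsIdealOfDefinition A J → J ≤ I₀) ↔
      ∃ n, I.radical ^ n ≤ I := by
  constructor
  · rintro ⟨I₀, hI₀, hmax⟩
    obtain ⟨n, -, hn⟩ := hI₀.2 _ (hI.1.mem_nhds I.zero_mem)
    refine ⟨n, (Ideal.pow_right_mono (fun x hx => ?_) n).trans hn⟩
    obtain ⟨J, hJ, -, hxJ⟩ := exists_idealOfDefinition_mem hI
      ((isTopologicallyNilpotent_iff_mem_radical hI).mpr hx)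
    exact hmax J hJ hxJ
  · rintro ⟨n, hn⟩
    exact ⟨I.radical, isIdealOfDefinition_of_pow_le hI (isOpen_mono Ideal.le_radical hI.1) hn,
      fun J hJ x hx => (isTopologicallyNilpotent_iff_mem_radical hI).mp
        (isTopologicallyNilpotent_of_mem_idealOfDefinition hJ hx)⟩

end LinTopLib
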